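import Groth.Agent.GIT.K686.QuotSpec
import Groth.Agent.NRQuot.K990.Basic

/-!
# Good quotients and affine quotients
-/

set_option autoImplicit false
universe u
open CategoryTheory MonoidalCategory CartesianMonoidalCategory MonObj AlgebraicGeometry Topology

namespace K676.GoodQuot

open K686

section Good

variable {S : Scheme.{u}} {G : Over S} [GrpObj G] {X Y : Over S} {a : AlgGrp.Action G X} {φ : X ⟶ Y}

/-- a good quotient is a categorical quotient -/
theorem isCatQuot (h : NRQuot.IsGoodQuot a φ) : GIT.IsCatQuot a φ := by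
  refine K687.isCatQuot_of_cov a φ h.inv (K990.NRQuot.IsGoodQuot.surjective h) h.sections ?_
  intro Z ψ hψ y
  let C : Z.left.affineOpens → Set X.left := fun V => (ψ.left.base ⁻¹' (V.1 : Set Z.left))ᶜ
  have hC : ∀ V, IsClosed (C V) := fun V => (V.1.2.preimage ψ.left.continuous).isClosed_compl
  have hCi : ∀ V, NRQuot.IsInvariantSet a (C V) := by
    intro V z hz hz'
    apply hz
    have h1 : ψ.left.base (a.act.left.base z) = ψ.left.base ((snd G X).left.base z) := by
      have := congrArg (fun f => f.base z) hψ.left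
      simpa using this
    change ψ.left.base ((snd G X).left.base z) ∈ V.1
    rw [← h1]
    exact hz'
  have hCe : ⋂ V, C V = ∅ := by
    rw [Set.eq_empty_iff_forall_notMem]
    intro x hx
    obtain ⟨V, hV, hxV, -⟩ := exists_isAffineOpen_mem_and_subset (U := ⊤) (x := ψ.left.base x) (Set.mem_univ _)
    exact Set.mem_iInter.mp hx ⟨V, hV⟩ hxV
  have h1 := h.inter _ C hC hCi
  rw [hCe, Set.image_empty] at h1
  have h2 : ∃ V, y ∉ φ.left.base '' C V := by
    by_contra hcon
    push Not at hcon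
    have : y ∈ ⋂ V, φ.left.base '' C V := Set.mem_iInter.mpr hcon
    rw [← h1] at this
    exact this
  obtain ⟨V, hV⟩ := h2
  refine ⟨⟨_, (h.closed _ (hC V) (hCi V)).isOpen_compl⟩, hV, V.1, V.2, ?_⟩
  intro x hx
  by_contra hx'
  exact hx ⟨x, hx', rfl⟩

theorem inv_top_iff (hi : GIT.IsInvariant a φ) (f : Γ(X.left, ⊤)) :
    GIT.IsInvSection a φ ⊤ f ↔ Haar.Inv a f := by
  have key : ∀ (O : (G ⊗ X).left.Opens) (_ : O = ⊤) (h1 : O ≤ a.act.left ⁻¹ᵁ ⊤) (h2 : O ≤ (snd G X).left ⁻¹ᵁ ⊤),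
      (a.act.left.appLE ⊤ O h1 f = (snd G X).left.appLE ⊤ O h2 f ↔ Haar.Inv a f) := by
    rintro O rfl h1 h2
    rw [IsLocQuot.appLE_top, IsLocQuot.appLE_top]
    rfl
  refine key _ ?_ inf_le_left inf_le_right
  rw [eq_top_iff]
  intro x _
  exact ⟨trivial, trivial⟩

theorem isAffQuot (h : NRQuot.IsGoodQuot a φ) : IsAffQuot a φ := by
  have h1 := h.sections ⊤
  refine ⟨h.inv, h1.1, ?_⟩
  have h2 := h1.2
  change Set.range (φ.left.app ⊤) = _
  rw [h2]
  ext f
  exact inv_top_iff h.inv f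

/-- images of intersections of closed invariant sets under affine quotients -/
theorem image_iInter_aff (h : IsAffQuot a φ) (H : Haar G) [IsAffine X.left] [IsAffine Y.left] {κ : Type*}
    (W : κ → Set X.left) (hW : ∀ i, IsClosed (W i)) (hi : ∀ i, InvSet a (W i)) (y : Y.left)
    (hy : ∀ i, y ∈ φ.left '' (W i)) : ∃ x, (∀ i, x ∈ W i) ∧ φ.left x = y := by
  have := H.affine X
  let J : κ → Ideal Γ(X.left, ⊤) := fun i => invIdeal a (van (W i))
  have hJ : ∀ i, ∀ j ∈ J i, φ.left.appTop.hom ((h.retr H).ret j) ∈ J i := fun i => h.retr_mem H (van (W i))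
  have hJs : ∀ j ∈ ⨆ i, J i, φ.left.appTop.hom ((h.retr H).ret j) ∈ ⨆ i, J i := by
    intro x hx
    induction hx using Submodule.iSup_induction' with
    | mem i x hx => exact Ideal.mem_iSup_of_mem i (hJ i x hx)
    | zero => rw [map_zero, map_zero]; exact zero_mem _
    | add x y _ _ hx hy => rw [map_add, map_add]; exact add_mem hx hy
  have h1 := (h.retr H).image_zeroLocus (⨆ i, J i) hJs
  have h2 : (⨆ i, J i).comap φ.left.appTop.hom ≤ (Y.left.toSpecΓ y).asIdeal := by
    intro r hr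
    have key : ∀ x ∈ ⨆ i, J i, (h.retr H).ret x ∈ (Y.left.toSpecΓ y).asIdeal := by
      intro x hx
      induction hx using Submodule.iSup_induction' with
      | mem i x hx =>
        exact (h.mem_image_iff H (hW i) (hi i) y).mp (hy i) (hJ i x hx)
      | zero => rw [map_zero]; exact zero_mem _
      | add x y _ _ hx hy => rw [map_add]; exact add_mem hx hy
    have h3 := key _ (Ideal.mem_comap.mp hr)
    rwa [(h.retr H).ret_map] at h3
  have h3 : Y.left.toSpecΓ y ∈ PrimeSpectrum.comap φ.left.appTop.hom ''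
      PrimeSpectrum.zeroLocus ((⨆ i, J i : Ideal Γ(X.left, ⊤)) : Set Γ(X.left, ⊤)) := by
    rw [h1]
    exact h2
  obtain ⟨p, hp, hpy⟩ := h3
  obtain ⟨x, rfl⟩ := (toSpecΓ_bijective X.left).2 p
  refine ⟨x, fun i => (mem_iff_invIdeal_le a (hW i) (hi i) x).mpr ((le_iSup J i).trans hp),
    (toSpecΓ_bijective Y.left).1 ?_⟩
  rw [toSpecΓ_apply, hpy]

/-- local affine quotients are good quotients -/
theorem isGoodQuot (h : IsLocQuot a φ) (H : Haar G) : NRQuot.IsGoodQuot a φ where
  affine := h.aff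
  inv := h.inv
  sections := h.sections
  closed W hW hi := h.isClosed_image H hW hi
  inter J W hW hi := by
    apply Set.Subset.antisymm
    · rintro _ ⟨x, hx, rfl⟩
      rw [Set.mem_iInter]
      exact fun i => ⟨x, Set.mem_iInter.mp hx i, rfl⟩
    intro y hy
    rw [Set.mem_iInter] at hy
    obtain ⟨O, hO, hyO, -⟩ := exists_isAffineOpen_mem_and_subset (U := ⊤) (x := y) (Set.mem_univ _)
    have : IsAffine (YW Y O).left := hO
    have : IsAffine (YW X (φ.left ⁻¹ᵁ O)).left := h.affineX hO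
    have hres : ∀ x : (φ.left ⁻¹ᵁ O).toScheme, φ.left ((φ.left ⁻¹ᵁ O).ι x) = O.ι ((φ.left ∣_ O) x) := by
      intro x
      rw [← Scheme.Hom.comp_apply, ← Scheme.Hom.comp_apply, morphismRestrict_ι]
    obtain ⟨x, hx, hxy⟩ := image_iInter_aff (h.quot O hO) H (fun i => (φ.left ⁻¹ᵁ O).ι ⁻¹' W i)
      (fun i => (hW i).preimage (φ.left ⁻¹ᵁ O).ι.continuous)
      (fun i => IsLocQuot.invSet_preimage _ (iW X (φ.left ⁻¹ᵁ O)) (bcAct_pr _ _ _) (hi i)) ⟨y, hyO⟩ (by
        intro i
        obtain ⟨x, hx, hxy⟩ := hy i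
        have hxO : x ∈ φ.left ⁻¹ᵁ O := by
          change φ.left x ∈ O
          rw [show φ.left x = y from hxy]
          exact hyO
        refine ⟨⟨x, hxO⟩, hx, Subtype.ext ?_⟩
        exact (hres ⟨x, hxO⟩).symm.trans hxy)
    refine ⟨(φ.left ⁻¹ᵁ O).ι x, Set.mem_iInter.mpr hx, ?_⟩
    exact (hres x).trans (congrArg O.ι hxy)

end Good

section Field

variable {k : Type u} [Field k] {G X Y : Over (Spec (CommRingCat.of k))} [GrpObj G] {a : AlgGrp.Action G X}
  {φ : X ⟶ Y}

/-- the target of a good quotient of an affine scheme is affine -/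
theorem isAffine (h : NRQuot.IsGoodQuot a φ) (H : Haar G) [IsAffine X.left] : IsAffine Y.left := by
  have h1 := isCatQuot h
  have : IsAffine (QuotSpec.Y a).left := inferInstanceAs (IsAffine (Spec (CommRingCat.of (QuotSpec.invAlg a))))
  have h2 := ((QuotSpec.isAffQuot a).isUnivCatQuot H).1
  obtain ⟨u, hu, -⟩ := h1.2 _ _ h2.1
  obtain ⟨v, hv, -⟩ := h2.2 _ _ h1.1
  have h3 : u ≫ v = 𝟙 Y := (h1.2 _ _ h1.1).unique (by change φ ≫ u ≫ v = φ; rw [← Category.assoc, hu, hv])
    (Category.comp_id _)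
  have h4 : v ≫ u = 𝟙 _ := (h2.2 _ _ h2.1).unique
    (by change QuotSpec.φ a ≫ v ≫ u = QuotSpec.φ a; rw [← Category.assoc, hv, hu]) (Category.comp_id _)
  have h5 : IsIso u := ⟨v, h3, h4⟩
  have h6 : IsIso u.left := (inferInstance : IsIso ((Over.forget _).map u))
  exact IsAffine.of_isIso u.left

/-- base change of good quotients of affine schemes -/
theorem isGoodQuot_baseChange (h : NRQuot.IsGoodQuot a φ) (H : Haar G) [IsAffine X.left]
    {X' Y' : Over (Spec (CommRingCat.of k))} {pr : X' ⟶ X} {φ' : X' ⟶ Y'} {g : Y' ⟶ Y} (hp : IsPullback pr φ' φ g)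
    (a' : AlgGrp.Action G X') (ha' : a'.act ≫ pr = (G ◁ pr) ≫ a.act) (hinv : GIT.IsInvariant a' φ') :
    NRQuot.IsGoodQuot a' φ' := by
  have := isAffine h H
  exact isGoodQuot ((isAffQuot h).isLocQuot H pr φ' g hp a' ha' hinv) H

end Field

end K676.GoodQuot
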