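import Groth.Agent.ChGrp.K676.SpSquares
import Groth.Agent.ChGrp.K676.GoodQuot

/-!
# Assembling Luna's étale slice theorem
-/

set_option autoImplicit false
set_option linter.unusedSectionVars false
set_option linter.style.haveILetI false
universe u
open CategoryTheory MonoidalCategory CartesianMonoidalCategory MonObj AlgebraicGeometry Topology Limits
open scoped TensorProduct
open K951.Pts CoactBr K765.Basic K676.OrbBridge K676.SpAct K676.StrongPts K982.Pts K982.Act K676.SpSquares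
open K686

namespace K676.Assemble

attribute [local instance] K951.Pts.algΓ

variable {k : Type u} [Field k] [IsAlgClosed k]

/-- Stabilizers are the same along equivariant monomorphisms. -/
theorem isPullback_stab {S₀ : Scheme.{u}} {G H X E O : Over S₀} [GrpObj G] [GrpObj H] {i : H ⟶ G}
    {a : AlgGrp.Action G X} {aE : AlgGrp.Action G E} {aO : AlgGrp.Action G O} {x : 𝟙_ (Over S₀) ⟶ X}
    {o : 𝟙_ (Over S₀) ⟶ O} (hH : IsPullback i (toUnit H) (a.orbitMap x) x)
    (κ : X ⟶ E) [Mono κ] (hκ : AlgGrp.Action.IsEquivariant a aE κ)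
    (c : O ⟶ E) [Mono c] (hc : AlgGrp.Action.IsEquivariant aO aE c) (h : x ≫ κ = o ≫ c) :
    IsPullback i (toUnit H) (aO.orbitMap o) o := by
  have hκ' := (isEquivariant_iff _ _ _).1 hκ
  have hc' := (isEquivariant_iff _ _ _).1 hc
  have key : ∀ (T : Over S₀) (g : T ⟶ G), sm a g (toUnit T ≫ x) = toUnit T ≫ x ↔
      sm aO g (toUnit T ≫ o) = toUnit T ≫ o := by
    intro T g
    rw [← cancel_mono κ, ← cancel_mono c, hκ', hc', Category.assoc, Category.assoc, h]
  have hmi : Mono i := Induced.mono_of_pt hH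
  refine isPullback_of_points ?_ ?_ ?_
  · rw [comp_orbitMap]
    refine (key H i).1 ?_
    rw [← comp_orbitMap, hH.w]
  · intro T g u hg
    have hu : u = toUnit T := toUnit_unique _ _
    subst hu
    rw [comp_orbitMap, ← key] at hg
    obtain ⟨h, hh⟩ := Induced.exists_pt hH g (by rw [comp_orbitMap]; exact hg)
    exact ⟨h, hh, toUnit_unique _ _⟩
  · intro T h h' e _
    exact (cancel_mono i).1 e

theorem sm_inv {S₀ : Scheme.{u}} {G X Y : Over S₀} [GrpObj G] {a : AlgGrp.Action G X} {φ : X ⟶ Y}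
    (h : GIT.IsInvariant a φ) {T : Over S₀} (g : T ⟶ G) (x : T ⟶ X) : sm a g x ≫ φ = x ≫ φ := by
  have h1 : a.act ≫ φ = snd G X ≫ φ := h
  rw [sm, Category.assoc, h1, lift_snd_assoc]

theorem range_of_isPullback {P X Y Z : Scheme.{u}} {f' : P ⟶ X} {g' : P ⟶ Y} {f : X ⟶ Z} {g : Y ⟶ Z}
    (h : IsPullback f' g' f g) : Set.range f'.base = f.base ⁻¹' Set.range g.base := by
  have h1 : Set.range f'.base = Set.range (Limits.pullback.fst f g).base := by
    rw [← h.isoPullback_hom_fst, Scheme.Hom.comp_base, TopCat.coe_comp, Set.range_comp]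
    have h2 : Set.range h.isoPullback.hom.base = Set.univ :=
      Set.range_eq_univ.2 h.isoPullback.hom.homeomorph.surjective
    rw [h2, Set.image_univ]
  rw [h1]
  exact Scheme.Pullback.range_fst f g

variable {G X Y : Over (Spec (CommRingCat.of k))} [GrpObj G]
  {A : Type u} [CommRing A] [IsDomain A] [HopfAlgebra k A] [Algebra.FiniteType k A] (e : sp k A ≅ G)
  [IsMonHom e.hom]
variable {S : Type u} [CommRing S] [Algebra k S] [HopfRep.Comod k A S] [GLin.IsCoactAlg k A S]
variable {C : Type u} [CommRing C] [Algebra k C] [HopfRep.Comod k A C] [GLin.IsCoactAlg k A C]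
  [IsDomain C] [Algebra.FiniteType k C]
variable {R : Type u} [CommRing R] [Algebra k R] [HopfRep.Comod k A R] [GLin.IsCoactAlg k A R]

theorem assemble (Hr : Haar G) [IsAffine X.left] (a : AlgGrp.Action G X) (π : X ⟶ Y) (hπ : NRQuot.IsGoodQuot a π)
    (x : 𝟙_ (Over (Spec (CommRingCat.of k))) ⟶ X)
    (H : Over (Spec (CommRingCat.of k))) [GrpObj H] (i : H ⟶ G) [IsMonHom i]
    (hH : IsPullback i (toUnit H) (a.orbitMap x) x)
    (κ : X ⟶ sp k S) [IsClosedImmersion κ.left] (hκ : AlgGrp.Action.IsEquivariant a (actSp e S) κ)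
    (πS : S →ₐ[k] C) (hπS : IsEquiv A πS) (hπs : Function.Surjective πS)
    (θ : S →ₐ[k] R) (hθ : IsEquiv A θ) (p : C →ₐ[k] R) (hp : IsEquiv A p)
    (y₀ : C →ₐ[k] k) (z₀ : R →ₐ[k] k) (F : GLin.invariants k A R)
    (hx : x ≫ κ = kpt (y₀.comp πS)) (hz : z₀.comp θ = y₀.comp πS) (hzp : z₀.comp p = y₀)
    (htr : ∀ z : C →ₐ[k] k, ∃ g : A →ₐ[k] k, z = GLin.actPt k g y₀) (hcl : GLin.IsClosedOrbit k A y₀)
    (hzF : z₀ F ≠ 0) (hF : IsStrong θ hθ F)
    (hsurj : ∀ z : R, ∃ s : S, z - θ s ∈ (RingHom.ker y₀).map p) :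
    ∃ (V W Q : Over (Spec (CommRingCat.of k))) (incl : V ⟶ X) (v : 𝟙_ (Over (Spec (CommRingCat.of k))) ⟶ V)
      (aV : AlgGrp.Action H V)
      (aW : AlgGrp.Action G W) (j : G ⊗ V ⟶ W) (ψ : W ⟶ X) (πW : W ⟶ Q) (ψq : Q ⟶ Y),
      IsImmersion incl.left ∧ IsAffine V.left ∧ v ≫ incl = x ∧
      aV.act ≫ incl = (H ◁ incl) ≫ (a.restrict i).act ∧
      GIT.IsCatQuot (ChGrp.twist i aV) j ∧ ChGrp.IsBalProd Scheme.fppfPrecoverage i aV aW j ∧
      j ≫ ψ = (G ◁ incl) ≫ a.act ∧ AlgGrp.Action.IsEquivariant aW a ψ ∧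
      NRQuot.IsGoodQuot aW πW ∧ πW ≫ ψq = ψ ≫ π ∧
      IsOpen (Set.range ψ.left.base) ∧
      π.left.base ⁻¹' (π.left.base '' Set.range ψ.left.base) = Set.range ψ.left.base ∧
      AlgebraicGeometry.Etale ψq.left ∧ IsPullback ψ πW π ψq := by
  have hmκ : Mono κ := (Over.forget _).mono_of_mono_map (inferInstanceAs (Mono κ.left))
  have hκ' := (isEquivariant_iff _ _ _).1 hκ
  have hθ' := (isEquivariant_iff _ _ _).1 (isEquivariant_pt e θ hθ)
  -- the map on quotients
  let e₀ := pt (GLin.invariants k A S).val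
  let τ := pt ((loc (k := k) F).comp (inv₀ θ hθ))
  have he₀ : GIT.IsInvariant (actSp e S) e₀ := isInvariant_pt e _ fun r => r.2
  have hinv : GIT.IsInvariant a (κ ≫ e₀) := by
    change a.act ≫ κ ≫ e₀ = snd G X ≫ κ ≫ e₀
    have h1 : a.act ≫ κ = (G ◁ κ) ≫ (actSp e S).act := hκ
    have h2 : (actSp e S).act ≫ e₀ = snd G _ ≫ e₀ := he₀
    rw [← Category.assoc, h1, Category.assoc, h2, ← Category.assoc, whiskerLeft_snd, Category.assoc]
  obtain ⟨σ, hσ, -⟩ := (GoodQuot.isCatQuot hπ).2 _ _ hinv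
  let Q : Over (Spec (CommRingCat.of k)) := Limits.pullback σ τ
  let ψq : Q ⟶ Y := Limits.pullback.fst σ τ
  let pT : Q ⟶ _ := Limits.pullback.snd σ τ
  have hQ : IsPullback ψq pT σ τ := IsPullback.of_hasPullback _ _
  let W : Over (Spec (CommRingCat.of k)) := Limits.pullback π ψq
  let ψ : W ⟶ X := Limits.pullback.fst π ψq
  let πW : W ⟶ Q := Limits.pullback.snd π ψq
  have hW : IsPullback ψ πW π ψq := IsPullback.of_hasPullback _ _
  have hWT : IsPullback ψ (πW ≫ pT) (κ ≫ e₀) τ := by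
    rw [← hσ]
    exact hW.paste_vert hQ
  have hsq := isPullback_strong hF
  have hw := hWT.w
  let u : W ⟶ sp k (Localization.Away (F : R)) := hsq.lift (ψ ≫ κ) (πW ≫ pT) (by
    rw [Category.assoc]; exact hw)
  have hu1 : u ≫ pt (loc (F : R)) ≫ pt θ = ψ ≫ κ := hsq.lift_fst _ _ _
  have hu2 : u ≫ pt (locInv F) = πW ≫ pT := hsq.lift_snd _ _ _
  have hWR : IsPullback ψ u κ (pt (loc (F : R)) ≫ pt θ) := by
    refine IsPullback.of_bot ?_ hu1.symm hsq
    rw [hu2]
    exact hWT
  let aW := bcAct hW a hπ.inv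
  have haW : aW.act ≫ ψ = (G ◁ ψ) ≫ a.act := bcAct_pr _ _ _
  have haW2 : GIT.IsInvariant aW πW := bcAct_inv _ _ _
  have hψe : AlgGrp.Action.IsEquivariant aW a ψ := haW
  have hψe' := (isEquivariant_iff _ _ _).1 hψe
  -- equivariance
  let p₀ : W ⟶ sp k R := u ≫ pt (loc (F : R))
  have hp0θ : p₀ ≫ pt θ = ψ ≫ κ := by rw [Category.assoc, hu1]
  have hp0r : p₀ ≫ pt (GLin.invariants k A R).val = πW ≫ pT ≫ pt (loc F) := by
    have h1 : pt (loc (k := k) (F : R)) ≫ pt (GLin.invariants k A R).val = pt (locInv F) ≫ pt (loc F) := by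
      apply fn_injective
      apply AlgHom.ext
      intro r
      have e1 := congr($(fn_comp_pt (pt (loc (k := k) (F : R))) (GLin.invariants k A R).val) r)
      have e2 := congr($(fn_comp_pt (𝟙 _) (loc (k := k) (F : R))) (r : R))
      have e3 := congr($(fn_comp_pt (pt (locInv (k := k) F)) (loc F)) r)
      have e4 := congr($(fn_comp_pt (𝟙 _) (locInv (k := k) F)) (loc (k := k) F r))
      rw [Category.id_comp] at e2 e4
      refine e1.trans (e2.trans (Eq.trans ?_ (e4.symm.trans e3.symm)))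
      exact congrArg (fn (𝟙 (sp k (Localization.Away (F : R))))) (locInv_loc F r).symm
    rw [Category.assoc, h1, ← Category.assoc, hu2, Category.assoc]
  have hp0u : ∀ (T : Over (Spec (CommRingCat.of k))) (w : T ⟶ W), IsUnit (fn (w ≫ p₀) (F : R)) := by
    intro T w
    have h1 : w ≫ p₀ = (w ≫ u) ≫ pt (loc (F : R)) := (Category.assoc _ _ _).symm
    rw [h1, fn_comp_pt]
    exact (isUnit_loc (k := k) (F : R)).map (fn (w ≫ u))
  have hp₀ : AlgGrp.Action.IsEquivariant aW (actSp e R) p₀ := by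
    rw [isEquivariant_iff]
    intro T g w
    refine ext_pt hF ?_ ?_ (hp0u T _)
    · rw [Category.assoc, hp0θ, hθ', Category.assoc, hp0θ, ← Category.assoc, hψe', hκ', Category.assoc]
    · rw [Category.assoc, hp0r, sm_inv (isInvariant_pt e _ fun r => r.2), Category.assoc, hp0r,
        ← Category.assoc, sm_inv haW2, Category.assoc]
  have hpe : AlgGrp.Action.IsEquivariant aW (actSp e C) (p₀ ≫ pt p) := by
    have h1 := (isEquivariant_iff _ _ _).1 hp₀
    have h2 := (isEquivariant_iff _ _ _).1 (isEquivariant_pt e p hp)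
    rw [isEquivariant_iff]
    intro T g w
    rw [← Category.assoc, h1, h2, Category.assoc]
  -- the fibre
  have hmπ : IsClosedImmersion (pt πS).left := isClosedImmersion_pt πS hπs
  have hmπ' : Mono (pt πS) := (Over.forget _).mono_of_mono_map (inferInstanceAs (Mono (pt πS).left))
  have hst : IsPullback i (toUnit H) ((actSp e C).orbitMap (kpt y₀)) (kpt y₀) :=
    isPullback_stab hH κ hκ (pt πS) (isEquivariant_pt e πS hπS) (by rw [hx, kpt_pt])
  obtain ⟨i1, i2, i3⟩ := orbit_props e y₀ htr hcl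
  let V : Over (Spec (CommRingCat.of k)) := Limits.pullback (p₀ ≫ pt p) (kpt y₀)
  let f : V ⟶ W := Limits.pullback.fst (p₀ ≫ pt p) (kpt y₀)
  have hf : IsPullback f (toUnit V) (p₀ ≫ pt p) (kpt y₀) := by
    have h1 : IsPullback f (Limits.pullback.snd (p₀ ≫ pt p) (kpt y₀)) (p₀ ≫ pt p) (kpt y₀) :=
      IsPullback.of_hasPullback _ _
    rwa [toUnit_unique (Limits.pullback.snd (p₀ ≫ pt p) (kpt y₀)) (toUnit V)] at h1
  obtain ⟨aV, haV, hcat, hbal⟩ := Induced.main hst hpe hf
  -- the slice is immersed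
  let Z' : Over (Spec (CommRingCat.of k)) := Limits.pullback (pt (loc (F : R)) ≫ pt p) (kpt y₀)
  let f' : Z' ⟶ sp k (Localization.Away (F : R)) := Limits.pullback.fst (pt (loc (F : R)) ≫ pt p) (kpt y₀)
  have hZ' : IsPullback f' (toUnit Z') (pt (loc (F : R)) ≫ pt p) (kpt y₀) := by
    have h1 : IsPullback f' (Limits.pullback.snd (pt (loc (F : R)) ≫ pt p) (kpt y₀)) (pt (loc (F : R)) ≫ pt p) (kpt y₀) :=
      IsPullback.of_hasPullback _ _
    rwa [toUnit_unique (Limits.pullback.snd (pt (loc (F : R)) ≫ pt p) (kpt y₀)) (toUnit Z')] at h1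
  have hN := isPullback_fibre p y₀
  let l : V ⟶ Z' := hZ'.lift (f ≫ u) (toUnit V) (by
    rw [← hf.w]
    simp only [p₀, Category.assoc])
  have hl : l ≫ f' = f ≫ u := hZ'.lift_fst _ _ _
  have hVZ : IsPullback f l u f' := by
    refine IsPullback.of_bot ?_ hl.symm hZ'
    rw [toUnit_unique (l ≫ toUnit Z') (toUnit V)]
    have h1 : u ≫ pt (loc (F : R)) ≫ pt p = p₀ ≫ pt p := (Category.assoc _ _ _).symm
    rw [h1]
    exact hf
  have hVX : IsPullback (f ≫ ψ) l κ (f' ≫ pt (loc (F : R)) ≫ pt θ) := hVZ.paste_horiz hWR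
  let l' : Z' ⟶ sp k (R ⧸ (RingHom.ker y₀).map p) := hN.lift (f' ≫ pt (loc (F : R))) (toUnit Z') (by
    rw [← hZ'.w, Category.assoc])
  have hl' : l' ≫ pt (Ideal.Quotient.mkₐ k ((RingHom.ker y₀).map p)) = f' ≫ pt (loc (F : R)) :=
    hN.lift_fst _ _ _
  have hZN : IsPullback f' l' (pt (loc (F : R))) (pt (Ideal.Quotient.mkₐ k ((RingHom.ker y₀).map p))) := by
    refine IsPullback.of_bot ?_ hl'.symm hN
    rw [toUnit_unique (l' ≫ toUnit _) (toUnit Z')]
    exact hZ'
  have hopen : IsOpenImmersion l'.left :=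
    MorphismProperty.of_isPullback (P := @IsOpenImmersion) (hZN.map (Over.forget _))
      (isOpenImmersion_loc (k := k) (F : R))
  have himm : IsImmersion (f' ≫ pt (loc (F : R)) ≫ pt θ).left := by
    have h1 : f' ≫ pt (loc (F : R)) ≫ pt θ =
        l' ≫ pt (Ideal.Quotient.mkₐ k ((RingHom.ker y₀).map p)) ≫ pt θ := by
      rw [← Category.assoc, ← hl', Category.assoc]
    rw [h1, Over.comp_left]
    have h2 := isClosedImmersion_fibre p y₀ θ hsurj
    exact inferInstanceAs (IsImmersion (l'.left ≫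
      (pt (Ideal.Quotient.mkₐ k ((RingHom.ker y₀).map p)) ≫ pt θ).left))
  have hincl : IsImmersion (f ≫ ψ).left :=
    MorphismProperty.of_isPullback (P := @IsImmersion) (hVX.flip.map (Over.forget _)) himm
  -- affineness
  have hWaff : IsAffine W.left := by
    have h1 : IsAffineHom u.left :=
      MorphismProperty.of_isPullback (P := @IsAffineHom) (hWR.map (Over.forget _))
        (inferInstanceAs (IsAffineHom κ.left))
    have h2 : IsAffine (sp k (Localization.Away (F : R))).left :=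
      inferInstanceAs (IsAffine (Spec (CommRingCat.of (Localization.Away (F : R)))))
    exact isAffine_of_isAffineHom u.left
  have hVaff : IsAffine V.left := by
    have h0 : IsAffine (𝟙_ (Over (Spec (CommRingCat.of k)))).left :=
      inferInstanceAs (IsAffine (Spec (CommRingCat.of k)))
    have h2 : IsAffine (sp k C).left := inferInstanceAs (IsAffine (Spec (CommRingCat.of C)))
    have h1 : IsAffineHom f.left :=
      MorphismProperty.of_isPullback (P := @IsAffineHom) (hf.flip.map (Over.forget _))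
        (inferInstanceAs (IsAffineHom (kpt y₀).left))
    exact isAffine_of_isAffineHom f.left
  -- the point
  obtain ⟨z', hz'⟩ := exists_pt_loc (k := k) (F : R) (kpt z₀) (by
    rw [fn_kpt']
    exact (isUnit_iff_ne_zero.2 hzF).map (Algebra.ofId k _))
  obtain ⟨w₀, hw₀, hw₀'⟩ := exists_of_isPullback hWR x z' (by
    rw [hx, ← Category.assoc, hz', kpt_pt, hz])
  obtain ⟨v, hv⟩ := Induced.exists_pt hf w₀ (by
    have h1 : w₀ ≫ p₀ ≫ pt p = kpt y₀ := by
      change w₀ ≫ (u ≫ pt (loc (F : R))) ≫ pt p = kpt y₀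
      rw [Category.assoc, ← Category.assoc, hw₀', ← Category.assoc, hz', kpt_pt, hzp]
    rw [h1, toUnit_unique (toUnit (𝟙_ (Over (Spec (CommRingCat.of k))))) (𝟙 _), Category.id_comp])
  -- étaleness
  have hτ : Etale τ.left := etale_loc hF
  have hψq : Etale ψq.left :=
    MorphismProperty.of_isPullback (P := @Etale) (hQ.flip.map (Over.forget _)) hτ
  have hψet : Etale ψ.left :=
    MorphismProperty.of_isPullback (P := @Etale) (hW.flip.map (Over.forget _)) hψq
  have hrange : Set.range ψ.left.base = π.left.base ⁻¹' Set.range ψq.left.base :=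
    range_of_isPullback (hW.map (Over.forget _))
  refine ⟨V, W, Q, f ≫ ψ, v, aV, aW, (G ◁ f) ≫ aW.act, ψ, πW, ψq, hincl, hVaff, ?_, ?_, hcat, hbal, ?_, hψe,
    GoodQuot.isGoodQuot_baseChange hπ Hr hW aW haW haW2, hW.w.symm, ?_, ?_, hψq, hW⟩
  · rw [← Category.assoc, hv, hw₀]
  · rw [← Category.assoc, haV, AlgGrp.Action.restrict_act, AlgGrp.Action.restrict_act, Category.assoc,
      Category.assoc, haW, MonoidalCategory.whiskerLeft_comp, Category.assoc, whisker_exchange_assoc,
      whisker_exchange_assoc, whisker_exchange_assoc]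
  · rw [Category.assoc, haW, MonoidalCategory.whiskerLeft_comp, Category.assoc]
  · exact ψ.left.isOpenMap.isOpen_range
  · rw [hrange, Set.image_preimage_eq _ (K990.NRQuot.IsGoodQuot.surjective hπ)]

end K676.Assemble
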