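import Groth.Agent.ChGrp.K982.Descent
import Groth.Prelude.Def_W4bk4git07Quot

/-!
# Schemes over a homogeneous space are induced from the fibre over the base point

`G` acts on `O` with point `o` of stabilizer `i : H ⟶ G`, the orbit map `G ⟶ O` being surjective, flat and
locally of finite presentation.  For an equivariant `p : W ⟶ O` with fibre `f : V ⟶ W` over `o`, the group `H` acts
on `V` and `W` is the balanced product `G ×^H V`, and the categorical quotient of `G × V` by `H`.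
-/

set_option autoImplicit false
universe u
open CategoryTheory MonoidalCategory CartesianMonoidalCategory MonObj GrpObj AlgebraicGeometry

namespace K676.Induced

open K982.Act K982.Pts K982.Descent

variable {S : Scheme.{u}} {G H O W V : Over S} [GrpObj G] [GrpObj H] {i : H ⟶ G} [IsMonHom i]
  {aO : AlgGrp.Action G O} {o : 𝟙_ (Over S) ⟶ O} {aW : AlgGrp.Action G W} {p : W ⟶ O} {f : V ⟶ W}

theorem mono_of_pt {V W O : Over S} {o : 𝟙_ (Over S) ⟶ O} {p : W ⟶ O} {f : V ⟶ W}
    (hf : IsPullback f (toUnit V) p o) : Mono f := by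
  refine ⟨fun g h e => hf.hom_ext e ?_⟩
  exact toUnit_unique _ _

theorem pt_eq {V W O : Over S} {o : 𝟙_ (Over S) ⟶ O} {p : W ⟶ O} {f : V ⟶ W}
    (hf : IsPullback f (toUnit V) p o) {T : Over S} (v : T ⟶ V) : (v ≫ f) ≫ p = toUnit T ≫ o := by
  rw [Category.assoc, hf.w, ← Category.assoc, toUnit_unique (v ≫ toUnit V) (toUnit T)]

theorem exists_pt {V W O : Over S} {o : 𝟙_ (Over S) ⟶ O} {p : W ⟶ O} {f : V ⟶ W}
    (hf : IsPullback f (toUnit V) p o) {T : Over S} (w : T ⟶ W) (hw : w ≫ p = toUnit T ≫ o) :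
    ∃ v : T ⟶ V, v ≫ f = w := by
  obtain ⟨v, hv, -⟩ := exists_of_isPullback hf w (toUnit T) hw
  exact ⟨v, hv⟩

omit [IsMonHom i] in
theorem stab_eq (hst : IsPullback i (toUnit H) (aO.orbitMap o) o) {T : Over S} (h : T ⟶ H) :
    sm aO (h ≫ i) (toUnit T ≫ o) = toUnit T ≫ o := by
  rw [← comp_orbitMap]
  exact pt_eq hst h

omit [IsMonHom i] in
theorem exists_stab (hst : IsPullback i (toUnit H) (aO.orbitMap o) o) {T : Over S} (g : T ⟶ G)
    (hg : sm aO g (toUnit T ≫ o) = toUnit T ≫ o) : ∃ h : T ⟶ H, h ≫ i = g :=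
  exists_pt hst g (by rw [comp_orbitMap, hg])

theorem exists_act (hst : IsPullback i (toUnit H) (aO.orbitMap o) o)
    (hp : AlgGrp.Action.IsEquivariant aW aO p) (hf : IsPullback f (toUnit V) p o) :
    ∃ aV : AlgGrp.Action H V, ∀ (T : Over S) (h : T ⟶ H) (v : T ⟶ V),
      sm aV h v ≫ f = sm aW (h ≫ i) (v ≫ f) := by
  have hp' := (isEquivariant_iff _ _ _).1 hp
  have hmono := mono_of_pt hf
  have hact : ∀ (T : Over S) (h : T ⟶ H) (v : T ⟶ V), ∃ v' : T ⟶ V, v' ≫ f = sm aW (h ≫ i) (v ≫ f) := by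
    intro T h v
    refine exists_pt hf _ ?_
    rw [hp', pt_eq hf, stab_eq hst]
  obtain ⟨m, hm⟩ := hact (H ⊗ V) (fst H V) (snd H V)
  have hm' : ∀ (T : Over S) (h : T ⟶ H) (z : T ⟶ V), (lift h z ≫ m) ≫ f = sm aW (h ≫ i) (z ≫ f) := by
    intro T h z
    rw [Category.assoc, hm, comp_sm, lift_fst_assoc, lift_snd_assoc]
  refine ⟨
    { act := m
      one_act := by
        rw [← cancel_mono f]
        refine AlgGrp.Action.hom_ext_lift₂ fun T u z => ?_
        have hu : u ≫ η[H] = 1 := by rw [Hom.one_def, toUnit_unique (toUnit T) u]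
        rw [← Category.assoc, ← Category.assoc, lift_whiskerRight, hm', hu, MonObj.one_comp, one_sm,
          ← Category.assoc, leftUnitor_hom, lift_snd]
      mul_act := by
        rw [← cancel_mono f]
        refine AlgGrp.Action.hom_ext_lift₃ fun T h h' z => ?_
        rw [← Category.assoc, ← Category.assoc, lift_whiskerRight, ← Hom.mul_def, hm', MonObj.mul_comp, mul_sm,
          ← Category.assoc, lift_lift_associator_hom_assoc, lift_whiskerLeft_assoc, hm', hm'] }, hm'⟩

/-- **Schemes over a homogeneous space are induced.** -/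
theorem main (hst : IsPullback i (toUnit H) (aO.orbitMap o) o)
    [Surjective (aO.orbitMap o).left] [Flat (aO.orbitMap o).left] [LocallyOfFinitePresentation (aO.orbitMap o).left]
    (hp : AlgGrp.Action.IsEquivariant aW aO p) (hf : IsPullback f (toUnit V) p o) :
    ∃ aV : AlgGrp.Action H V, aV.act ≫ f = (H ◁ f) ≫ (aW.restrict i).act ∧
      GIT.IsCatQuot (ChGrp.twist i aV) ((G ◁ f) ≫ aW.act) ∧
      ChGrp.IsBalProd Scheme.fppfPrecoverage i aV aW ((G ◁ f) ≫ aW.act) := by
  have hK := Scheme.fppfPrecoverage_le_fpqcPrecoverage.{u}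
  obtain ⟨aV, haV⟩ := exists_act hst hp hf
  have hp' := (isEquivariant_iff _ _ _).1 hp
  have hmono := mono_of_pt hf
  have hi : Mono i := mono_of_pt hst
  set j : G ⊗ V ⟶ W := (G ◁ f) ≫ aW.act with hj
  have hj' : ∀ (T : Over S) (g : T ⟶ G) (v : T ⟶ V), lift g v ≫ j = sm aW g (v ≫ f) := by
    intro T g v
    rw [hj, ← Category.assoc, lift_whiskerLeft]
    rfl
  have h3 : ∀ (T : Over S) (g g' : T ⟶ G) (z z' : T ⟶ V), lift g z ≫ j = lift g' z' ≫ j →
      ∃ h : T ⟶ H, g = g' * (h ≫ i)⁻¹ ∧ z = sm aV h z' := by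
    intro T g g' z z' hzz
    rw [hj', hj'] at hzz
    have h1 := congrArg (· ≫ p) hzz
    simp only [hp', pt_eq hf] at h1
    obtain ⟨h, hh⟩ := exists_stab hst (g⁻¹ * g') (by rw [mul_sm, ← h1, inv_sm_sm])
    refine ⟨h, by rw [hh]; group, ?_⟩
    rw [← cancel_mono f, haV, hh, mul_sm, ← hzz, inv_sm_sm]
  have hloc : NonAbH1.IsLocallyTrivialFor Scheme.fppfPrecoverage (Over.mk j.left : Over W.left) := by
    have h0 : NonAbH1.IsLocallyTrivialFor Scheme.fppfPrecoverage
        (Over.mk (aO.orbitMap o).left : Over O.left) :=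
      isLocallyTrivialFor_fppf (aO.orbitMap o).left ⟨𝟙 _, Category.id_comp _⟩
    refine isLocallyTrivialFor_of_lift h0 j p fun T t a ha => ?_
    rw [comp_orbitMap] at ha
    obtain ⟨v, hv⟩ := exists_pt hf (sm aW a⁻¹ t) (by rw [hp', ← ha, inv_sm_sm])
    exact ⟨lift a v, by rw [hj', hv, sm_inv_sm]⟩
  have hbal : ChGrp.IsBalProd Scheme.fppfPrecoverage i aV aW j := by
    refine isBalProd_of_points ?_ ?_ h3 ?_ hloc
    · intro T g' g z
      rw [hj', hj', mul_sm]
    · intro T h g z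
      rw [hj', hj', haV, ← mul_sm, inv_mul_cancel_right]
    · intro T h h' z e1 _
      exact (cancel_mono i).1 e1
  refine ⟨aV, ?_, ⟨?_, ?_⟩, hbal⟩
  · refine AlgGrp.Action.hom_ext_lift₂ fun T h v => ?_
    rw [← Category.assoc, lift_act, haV, ← Category.assoc, lift_whiskerLeft, lift_act, sm_restrict]
  · exact hbal.2.1.w
  · intro Z ψ hψ
    refine existsUnique_descend hK hloc ψ fun T a a' haa => ?_
    obtain ⟨g, z, rfl⟩ := exists_eq_lift a
    obtain ⟨g', z', rfl⟩ := exists_eq_lift a'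
    obtain ⟨h, hg, hz⟩ := h3 T g g' z z' haa
    have h1 := congrArg (lift h (lift g' z') ≫ ·) hψ
    simp only [lift_snd_assoc] at h1
    rw [← Category.assoc, lift_act, sm_twist, ← hg, ← hz] at h1
    exact h1

end K676.Induced
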