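import Groth.Agent.ChGrp.K676.StrongPts
import Groth.Agent.GLin.K765.Slice5

/-!
# The algebra of Luna's slice theorem

`exists_slice`: the tubular neighbourhood of a closed orbit of a comodule algebra, strongly étale after inverting an
invariant.
-/

set_option autoImplicit false
set_option linter.unusedSectionVars false
set_option linter.style.haveILetI false

universe u v w w' w''

open TensorProduct HopfRep GLin

namespace K676.SliceAlg

open Groth.Agent.Books Groth.Agent.Books.ComodBasic Groth.Agent.Books.ComodHom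
open K765.Basic K765.Tr K765.Gens K765.SubAlg K765.Build K765.Haar K765.EqDer K765.Nbd K765.NbdEt
open K765.NbdEq K765.Slice1 K765.Slice2 K765.Slice3 K765.Slice4 K676.StrongPts

section Gen

variable {k : Type u} [Field k] {C : Type u} [CommRing C] [Algebra k C]
variable {E : Type u} [AddCommGroup E] [Module k E] (η : E →ₗ[k] C)
variable (δ : Derivation k C (C ⊗[k] E))

/-- The fibre of the tubular neighbourhood over a point is a closed subscheme of the representation. -/
theorem exists_sub_theta_mem (y : C →ₐ[k] k) (z : Z δ) :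
    ∃ s : SymmetricAlgebra k E, z - theta η δ s ∈ (RingHom.ker y).map (pZ δ) := by
  set I : Ideal (Z δ) := (RingHom.ker y).map (pZ δ) with hI
  let q : Z δ →ₐ[k] Z δ ⧸ I := Ideal.Quotient.mkₐ k I
  have hp : ∀ c, q (pZ δ c) = algebraMap k _ (y c) := by
    intro c
    have h1 : pZ δ c - algebraMap k _ (y c) ∈ I := by
      have h2 : c - algebraMap k C (y c) ∈ RingHom.ker y := by
        rw [RingHom.mem_ker, map_sub, AlgHom.commutes]
        simp
      have h3 := Ideal.mem_map_of_mem (pZ δ) h2
      rwa [map_sub, AlgHom.commutes] at h3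
    have h4 : q (pZ δ c - algebraMap k _ (y c)) = 0 := Ideal.Quotient.eq_zero_iff_mem.2 h1
    rw [map_sub, AlgHom.commutes, sub_eq_zero] at h4
    exact h4
  have key : ∀ w : C ⊗[k] SymmetricAlgebra k E, q (qZ δ w) ∈ (q.comp (theta η δ)).range := by
    intro w
    induction w with
    | zero => rw [map_zero, map_zero]; exact zero_mem _
    | add a b ha hb => rw [map_add, map_add]; exact add_mem ha hb
    | tmul c t =>
      have h1 : (c ⊗ₜ[k] t : C ⊗[k] SymmetricAlgebra k E) = (c ⊗ₜ 1) * (1 ⊗ₜ t) := by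
        rw [Algebra.TensorProduct.tmul_mul_tmul, one_mul, mul_one]
      rw [h1, map_mul, map_mul]
      refine mul_mem ?_ ?_
      · change q (pZ δ c) ∈ _
        rw [hp]
        exact Subalgebra.algebraMap_mem _ _
      · induction t using SymmetricAlgebra.induction with
        | algebraMap r =>
          have h2 : ((1 : C) ⊗ₜ[k] (algebraMap k (SymmetricAlgebra k E) r)) =
              algebraMap k (C ⊗[k] SymmetricAlgebra k E) r := by
            rw [Algebra.TensorProduct.algebraMap_apply, Algebra.algebraMap_eq_smul_one,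
              Algebra.algebraMap_eq_smul_one, TensorProduct.tmul_smul, TensorProduct.smul_tmul']
          rw [h2, AlgHom.commutes, AlgHom.commutes]
          exact Subalgebra.algebraMap_mem _ _
        | ι e =>
          have h2 : qZ δ (1 ⊗ₜ SymmetricAlgebra.ι k E e) =
              theta η δ (SymmetricAlgebra.ι k E e) - pZ δ (η e) := by
            rw [qZ_tmul_ι, map_one, one_mul, theta_ι]
            abel
          rw [h2, map_sub, hp]
          exact sub_mem ⟨_, rfl⟩ (Subalgebra.algebraMap_mem _ _)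
        | mul a b ha hb =>
          have h2 : ((1 : C) ⊗ₜ[k] (a * b)) = (1 ⊗ₜ a) * (1 ⊗ₜ b) := by
            rw [Algebra.TensorProduct.tmul_mul_tmul, one_mul]
          rw [h2, map_mul, map_mul]
          exact mul_mem (ha (by
            rw [Algebra.TensorProduct.tmul_mul_tmul, one_mul, mul_one])) (hb (by
            rw [Algebra.TensorProduct.tmul_mul_tmul, one_mul, mul_one]))
        | add a b ha hb =>
          rw [TensorProduct.tmul_add, map_add, map_add]
          exact add_mem (ha (by
            rw [Algebra.TensorProduct.tmul_mul_tmul, one_mul, mul_one])) (hb (by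
            rw [Algebra.TensorProduct.tmul_mul_tmul, one_mul, mul_one]))
  obtain ⟨w, rfl⟩ := qZ_surjective δ z
  obtain ⟨s, hs⟩ := key w
  refine ⟨s, Ideal.Quotient.eq_zero_iff_mem.1 ?_⟩
  rw [map_sub, sub_eq_zero]
  exact hs.symm

end Gen

/-- **The algebra of Luna's slice theorem.** -/
theorem exists_slice (k : Type u) [Field k] [IsAlgClosed k] [CharZero k]
    (A : Type u) [CommRing A] [IsDomain A] [HopfAlgebra k A] [Algebra.FiniteType k A]
    (hG : HopfRep.IsLinearlyReductive k A)
    (B : Type u) [CommRing B] [Algebra k B] [Algebra.FiniteType k B]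
    [HopfRep.Comod k A B] [GLin.IsCoactAlg k A B]
    (x : B →ₐ[k] k) (hx : GLin.IsClosedOrbit k A x) :
    ∃ (S : Type u) (_ : CommRing S) (_ : Algebra k S) (_ : Comod k A S) (_ : IsCoactAlg k A S)
      (C : Type u) (_ : CommRing C) (_ : Algebra k C) (_ : Comod k A C) (_ : IsCoactAlg k A C)
      (_ : IsDomain C) (_ : Algebra.FiniteType k C)
      (R : Type u) (_ : CommRing R) (_ : Algebra k R) (_ : Comod k A R) (_ : IsCoactAlg k A R)
      (κ : S →ₐ[k] B) (π : S →ₐ[k] C) (θ : S →ₐ[k] R) (p : C →ₐ[k] R)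
      (y₀ : C →ₐ[k] k) (z₀ : R →ₐ[k] k) (hθ : IsEquiv A θ) (F : invariants k A R),
      (IsEquiv A κ ∧ Function.Surjective κ) ∧ (IsEquiv A π ∧ Function.Surjective π) ∧ IsEquiv A p ∧
      y₀.comp π = x.comp κ ∧ z₀.comp θ = x.comp κ ∧ z₀.comp p = y₀ ∧
      (∀ z : C →ₐ[k] k, ∃ g : A →ₐ[k] k, z = actPt k g y₀) ∧ IsClosedOrbit k A y₀ ∧
      z₀ F ≠ 0 ∧ IsStrong θ hθ F ∧
      ∀ z : R, ∃ s : S, z - θ s ∈ (RingHom.ker y₀).map p := by
  obtain ⟨E, hE, hEf, hEgen⟩ := exists_generating (k := k) A B
  letI cE : Comod k A E := subComod E hE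
  letI cS := symComod k A E
  haveI aS := isCoactAlg_sym k A E
  let κ : SymmetricAlgebra k E →ₐ[k] B := SymmetricAlgebra.lift E.subtype
  have eκ : IsEquiv A κ := isEquiv_lift (isComodHom_subtype E hE)
  have hκ : Function.Surjective κ := lift_subtype_surjective hEgen
  have hy : IsClosedOrbit k A (x.comp κ) := by
    rw [IsClosedOrbit, orbitHom_comp eκ]
    exact (isClosed_range_comap_comp_iff κ.toRingHom hκ (orbitHom k A x).toRingHom).2 hx
  obtain ⟨C, _, _, cC, aC, _, hft, π, y₀, eπ, hπ, hy₀, htr, hsm⟩ :=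
    exists_orbit_algebra (A := A) (x.comp κ) hy
  haveI : Algebra.FormallySmooth k C := hsm.1
  have hcl : IsClosedOrbit k A y₀ := by
    rw [← hy₀, IsClosedOrbit, orbitHom_comp eπ] at hy
    exact (isClosed_range_comap_comp_iff π.toRingHom hπ (orbitHom k A y₀).toRingHom).1 hy
  let η : E →ₗ[k] C := π.toLinearMap ∘ₗ SymmetricAlgebra.ι k E
  have hη : IsComodHom k A η := ((isEquiv_iff _).1 eπ).comp (isComodHom_ι E)
  have hgen : Algebra.adjoin k (Set.range η) = ⊤ := by
    have h1 : Set.range η = π '' Set.range (SymmetricAlgebra.ι k E) := by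
      rw [← Set.range_comp]
      rfl
    rw [h1, ← AlgHom.map_adjoin, adjoin_range_ι, Algebra.map_top,
      AlgHom.range_eq_top]
    exact hπ
  obtain ⟨δ, heq, hδ⟩ := exists_equivariant_derivation hG η hη hgen
  letI cZ' := cZ heq
  haveI aZ' := aZ heq
  haveI := isReduced_Z hδ
  have eθ : IsEquiv A (theta η δ) := isEquiv_theta heq hη
  have ez : (zeroPt δ y₀).comp (theta η δ) = x.comp κ := by
    refine SymmetricAlgebra.algHom_ext (LinearMap.ext fun e => ?_)
    change zeroPt δ y₀ (theta η δ (SymmetricAlgebra.ι k E e)) = (x.comp κ) (SymmetricAlgebra.ι k E e)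
    rw [zeroPt_theta, ← hy₀]
    rfl
  have hfix : ∀ g : A →ₐ[k] k, ∀ z : C →ₐ[k] k, actPt k g (z.comp π) = z.comp π →
      actPt k g z = z := by
    intro g z hg
    rw [actPt_comp eπ] at hg
    refine AlgHom.ext fun s => ?_
    obtain ⟨s, rfl⟩ := hπ s
    exact DFunLike.congr_fun hg s
  obtain ⟨F, hzF, hF⟩ := exists_strong k A hG (SymmetricAlgebra k E) (Z δ) (theta η δ) eθ
    (zeroPt δ y₀) (fun P _ => isDomain_loc hδ P) (fun P _ => isIntegrallyClosed_loc hδ P)
    (fun P _ hP => isEtaleAt_theta hδ y₀ P hP) (by rw [ez]; exact hy) (by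
      intro g hg
      rw [ez, ← hy₀] at hg
      rw [zeroPt_eq, actPt_comp (isEquiv_zeroSec heq), hfix g y₀ hg])
  exact ⟨SymmetricAlgebra k E, inferInstance, inferInstance, cS, aS, C, _, _, cC, aC, inferInstance, hft,
    Z δ, inferInstance, inferInstance, cZ', aZ', κ, π, theta η δ, pZ δ, y₀, zeroPt δ y₀, eθ, F,
    ⟨eκ, hκ⟩, ⟨eπ, hπ⟩, isEquiv_pZ heq, hy₀, ez, AlgHom.ext fun c => zeroPt_pZ (δ := δ) y₀ c, htr, hcl, hzF, hF,
    fun z => exists_sub_theta_mem η δ y₀ z⟩

end K676.SliceAlg
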