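import Groth.Agent.GLinSh.K676.OrbBridge
import Groth.Agent.GLin.K765.Basic
import Groth.Agent.ChGrp.K982.Act
import Groth.Agent.GLin.K765.OrbFlat
import Groth.Agent.GLin.K765.Slice2

/-!
# Actions on spectra of comodule algebras

`e : Spec A ≅ G` an isomorphism of group schemes over a field, `B` a comodule algebra over `A`:
`actSp e B` is the action of `G` on `Spec B`.
-/

set_option autoImplicit false
set_option linter.unusedSectionVars false
set_option linter.style.haveILetI false
universe u
open CategoryTheory MonoidalCategory CartesianMonoidalCategory MonObj AlgebraicGeometry Topology Limits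
open scoped TensorProduct
open K951.Pts CoactBr K765.Basic K676.OrbBridge

namespace K676.SpAct

attribute [local instance] K951.Pts.algΓ

variable {k : Type u} [Field k]

section Points

variable {A : Type u} [CommRing A] [HopfAlgebra k A]
variable {B : Type u} [CommRing B] [Algebra k B] [HopfRep.Comod k A B] [GLin.IsCoactAlg k A B]

theorem fn_ract {T : Over (Spec (CommRingCat.of k))} (x : T ⟶ sp k B) (g : T ⟶ sp k A) :
    fn (lift x g ≫ ract k A B) =
      (Algebra.TensorProduct.lift (fn x) (fn g) fun _ _ => .all _ _).comp (GLin.coactAlgHom k A B) := by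
  rw [← aff_comp_pt x, ← aff_comp_pt g, ← comp_lift, Category.assoc, lift_pt_ract, fn_comp_pt, fn_aff,
    AlgHom.id_comp, aff_comp_pt, aff_comp_pt]

/-- The rational point of a spectrum. -/
noncomputable def kpt (y : B →ₐ[k] k) : 𝟙_ (Over (Spec (CommRingCat.of k))) ⟶ sp k B :=
  ofFn ((Algebra.ofId k _).comp y)

theorem fn_kpt (y : B →ₐ[k] k) (T : Over (Spec (CommRingCat.of k))) :
    fn (toUnit T ≫ kpt y) = (Algebra.ofId k Γ(T.left, ⊤)).comp y := by
  apply AlgHom.ext
  intro f
  rw [fn_comp, kpt, fn_ofFn]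
  have h1 : ∀ r : k, (toUnit T).left.appTop.hom
      (Algebra.ofId k Γ((𝟙_ (Over (Spec (CommRingCat.of k)))).left, ⊤) r) = Algebra.ofId k Γ(T.left, ⊤) r := by
    intro r
    change (toUnit T).left.appTop.hom (fnS (𝟙_ (Over (Spec (CommRingCat.of k)))).hom r) = fnS T.hom r
    rw [← fnS_comp_apply, Over.w]
  exact h1 _

theorem fn_kpt' (y : B →ₐ[k] k) : fn (kpt y) = (Algebra.ofId k _).comp y := fn_ofFn _

theorem kpt_pt {B' : Type u} [CommRing B'] [Algebra k B'] (f : B →ₐ[k] B') (y : B' →ₐ[k] k) :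
    kpt y ≫ pt f = kpt (y.comp f) := by
  apply fn_injective
  rw [fn_comp_pt, kpt, fn_ofFn, kpt, fn_ofFn]
  rfl

theorem comp_aff {X : Over (Spec (CommRingCat.of k))} (x : 𝟙_ (Over (Spec (CommRingCat.of k))) ⟶ X) :
    x ≫ aff X = kpt (evp x) := by
  apply fn_injective
  rw [fn_unit_aff, kpt, fn_ofFn]

end Points

variable {G : Over (Spec (CommRingCat.of k))} [GrpObj G]
  {A : Type u} [CommRing A] [HopfAlgebra k A] (e : sp k A ≅ G) [IsMonHom e.hom]

section Act

variable (B : Type u) [CommRing B] [Algebra k B] [HopfRep.Comod k A B] [GLin.IsCoactAlg k A B]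

/-- The action of `G ≅ Spec A` on `Spec B`. -/
noncomputable def actSp : AlgGrp.Action G (sp k B) := (CoactBr.action k A B).restrict e.inv

open K982.Act in
theorem sm_actSp {T : Over (Spec (CommRingCat.of k))} (g : T ⟶ G) (v : T ⟶ sp k B) :
    sm (actSp e B) g v = lift v (g ≫ e.inv)⁻¹ ≫ ract k A B := by
  rw [actSp, sm_restrict]
  exact lift_action_act _ _

open K982.Act in
theorem fn_sm {T : Over (Spec (CommRingCat.of k))} (g : T ⟶ G) (v : T ⟶ sp k B) :
    fn (sm (actSp e B) g v) = (Algebra.TensorProduct.lift (fn v) (fn (g ≫ e.inv)⁻¹) fun _ _ => .all _ _).comp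
      (GLin.coactAlgHom k A B) := by
  rw [sm_actSp, fn_ract]

variable {B}
variable {B' : Type u} [CommRing B'] [Algebra k B'] [HopfRep.Comod k A B'] [GLin.IsCoactAlg k A B']

theorem isEquivariant_pt (f : B →ₐ[k] B') (hf : IsEquiv A f) :
    AlgGrp.Action.IsEquivariant (actSp e B') (actSp e B) (pt f) := by
  rw [K982.Act.isEquivariant_iff]
  intro T g v
  apply fn_injective
  rw [fn_comp_pt, fn_sm, fn_sm, fn_comp_pt]
  apply AlgHom.ext
  intro b
  simp only [AlgHom.comp_apply]
  have h1 : GLin.coactAlgHom k A B' (f b) = Algebra.TensorProduct.map f (AlgHom.id k A) (GLin.coactAlgHom k A B b) :=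
    hf b
  rw [h1]
  generalize GLin.coactAlgHom k A B b = t
  induction t with
  | zero => simp only [map_zero]
  | add s t hs ht => rw [map_add, map_add, map_add, hs, ht]
  | tmul s t =>
    rw [Algebra.TensorProduct.map_tmul, Algebra.TensorProduct.lift_tmul, Algebra.TensorProduct.lift_tmul]
    rfl

theorem isInvariant_pt {R₀ : Type u} [CommRing R₀] [Algebra k R₀] (f : R₀ →ₐ[k] B)
    (hf : ∀ r, f r ∈ GLin.invariants k A B) : GIT.IsInvariant (actSp e B) (pt f) := by
  refine AlgGrp.Action.hom_ext_lift₂ fun T g v => ?_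
  rw [← Category.assoc, K982.Act.lift_act, lift_snd_assoc]
  apply fn_injective
  rw [fn_comp_pt, fn_sm, fn_comp_pt]
  apply AlgHom.ext
  intro r
  simp only [AlgHom.comp_apply]
  have h1 : GLin.coactAlgHom k A B (f r) = f r ⊗ₜ[k] (1 : A) := (GLin.mem_invariants_iff k A B _).1 (hf r)
  rw [h1, Algebra.TensorProduct.lift_tmul, map_one, _root_.mul_one]

end Act

section Aff

variable {X : Over (Spec (CommRingCat.of k))} [IsAffine X.left] (a : AlgGrp.Action G X)

open K982.Act in
theorem isEquivariant_aff : letI := cm a e; haveI := isCoactAlg a e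
    AlgGrp.Action.IsEquivariant a (actSp e Γ(X.left, ⊤)) (aff X) := by
  letI := cm a e
  haveI := isCoactAlg a e
  rw [isEquivariant_iff]
  intro T g x
  apply fn_injective
  rw [fn_sm]
  have h1 := K686.CoactOf.fn_lift_r a e (x ≫ aff X) (g ≫ e.inv)⁻¹
  refine Eq.trans ?_ h1
  rw [K686.CoactOf.lift_r, K686.CoactOf.ε_inv]
  have h2 : ((g ≫ e.inv)⁻¹ ≫ e.hom)⁻¹ = g := by
    rw [← GrpObj.inv_comp, inv_inv, Category.assoc, e.inv_hom_id, Category.comp_id]
  have h3 : (x ≫ aff X) ≫ (K686.CoactOf.ε X).hom = x := by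
    rw [← K686.CoactOf.ε_inv, Category.assoc, Iso.inv_hom_id, Category.comp_id]
  rw [h2, h3]
  rfl

end Aff

section Orbit

variable {C : Type u} [CommRing C] [Algebra k C] [HopfRep.Comod k A C] [GLin.IsCoactAlg k A C]

theorem orbitMap_eq (y : C →ₐ[k] k) :
    (actSp e C).orbitMap (kpt y) = (e.inv)⁻¹ ≫ pt (GLin.orbitHom k A y) := by
  have h1 := K982.Act.comp_orbitMap (actSp e C) (𝟙 G) (kpt y)
  rw [Category.id_comp] at h1
  rw [h1]
  apply fn_injective
  rw [fn_sm, fn_comp_pt, fn_kpt, Category.id_comp]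
  apply AlgHom.ext
  intro c
  simp only [AlgHom.comp_apply]
  rw [K690.Orbits.orbitHom_apply]
  change _ = fn e.inv⁻¹ (TensorProduct.lid k A (y.toLinearMap.rTensor A (GLin.coactAlgHom k A C c)))
  generalize GLin.coactAlgHom k A C c = t
  induction t with
  | zero => simp only [map_zero]
  | add s t hs ht => rw [map_add, map_add, map_add, map_add, hs, ht]
  | tmul s t =>
    rw [Algebra.TensorProduct.lift_tmul, LinearMap.rTensor_tmul, TensorProduct.lid_tmul, map_smul, Algebra.smul_def]
    rfl

theorem isIso_inv : IsIso ((e.inv)⁻¹ : G ⟶ sp k A) := by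
  rw [Hom.inv_def]
  infer_instance

omit [IsMonHom e.hom] in
theorem isIso_inv_left : IsIso ((e.inv)⁻¹ : G ⟶ sp k A).left := by
  have : IsIso ((e.inv)⁻¹ : G ⟶ sp k A) := by
    rw [Hom.inv_def]
    infer_instance
  exact inferInstanceAs (IsIso ((Over.forget (Spec (CommRingCat.of k))).map ((e.inv)⁻¹ : G ⟶ sp k A)))

theorem injective_orbitHom [IsAlgClosed k] [IsDomain C] [Algebra.FiniteType k C] (y : C →ₐ[k] k)
    (htr : ∀ z : C →ₐ[k] k, ∃ g : A →ₐ[k] k, z = GLin.actPt k g y) :
    Function.Injective (GLin.orbitHom k A y) := by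
  rw [injective_iff_map_eq_zero]
  intro c hc
  by_contra hne
  obtain ⟨z, -, hz⟩ := K765.Slice2.exists_point_of_notMem (k := k) (⊥ : Ideal C) (H := c) (by
    rwa [Ideal.mem_bot])
  obtain ⟨g, rfl⟩ := htr z
  apply hz
  change g (GLin.orbitHom k A y c) = 0
  rw [hc, map_zero]

theorem orbit_props [IsAlgClosed k] [IsDomain A] [Algebra.FiniteType k A] [IsDomain C] [Algebra.FiniteType k C]
    (y : C →ₐ[k] k)
    (htr : ∀ z : C →ₐ[k] k, ∃ g : A →ₐ[k] k, z = GLin.actPt k g y) (hcl : GLin.IsClosedOrbit k A y) :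
    Surjective ((actSp e C).orbitMap (kpt y)).left ∧ Flat ((actSp e C).orbitMap (kpt y)).left ∧
      LocallyOfFinitePresentation ((actSp e C).orbitMap (kpt y)).left := by
  have h1 : ((actSp e C).orbitMap (kpt y)).left = ((e.inv)⁻¹ : G ⟶ sp k A).left ≫
      Spec.map (CommRingCat.ofHom (GLin.orbitHom k A y).toRingHom) := by
    rw [orbitMap_eq]
    rfl
  have h2 := isIso_inv_left e
  have h3 : Module.FaithfullyFlat (GLin.orbitHom k A y).range A := K765.OrbFlat.faithfullyFlat_of_isClosedOrbit hcl
  have h4 : Function.Bijective (GLin.orbitHom k A y).rangeRestrict := by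
    refine ⟨fun a b hab => injective_orbitHom y htr (congrArg Subtype.val hab), (GLin.orbitHom k A y).rangeRestrict_surjective⟩
  have h5 : Spec.map (CommRingCat.ofHom (GLin.orbitHom k A y).toRingHom) =
      Spec.map (CommRingCat.ofHom (algebraMap (GLin.orbitHom k A y).range A)) ≫
        Spec.map (CommRingCat.ofHom (GLin.orbitHom k A y).rangeRestrict.toRingHom) := by
    rw [← Spec.map_comp]
    rfl
  have h6 : IsIso (CommRingCat.ofHom (GLin.orbitHom k A y).rangeRestrict.toRingHom) :=
    (ConcreteCategory.isIso_iff_bijective _).2 h4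
  have h7 : Surjective (Spec.map (CommRingCat.ofHom (algebraMap (GLin.orbitHom k A y).range A))) := by
    refine ⟨?_⟩
    exact PrimeSpectrum.comap_surjective_of_faithfullyFlat
  have h8 : Flat (Spec.map (CommRingCat.ofHom (algebraMap (GLin.orbitHom k A y).range A))) := by
    rw [Flat.SpecMap_iff]
    exact (RingHom.flat_algebraMap_iff).2 inferInstance
  have h9 : LocallyOfFinitePresentation (Spec.map (CommRingCat.ofHom (GLin.orbitHom k A y).toRingHom)) := by
    rw [LocallyOfFinitePresentation.SpecMap_iff]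
    have hN : IsNoetherianRing C := Algebra.FiniteType.isNoetherianRing k C
    refine RingHom.FinitePresentation.of_finiteType.1 ?_
    letI := (GLin.orbitHom k A y).toRingHom.toAlgebra
    haveI : IsScalarTower k C A := IsScalarTower.of_algebraMap_eq fun c => ((GLin.orbitHom k A y).commutes c).symm
    exact Algebra.FiniteType.of_restrictScalars_finiteType k C A
  have key : ∀ u : G.left ⟶ Spec (CommRingCat.of A), IsIso u →
      Surjective (u ≫ Spec.map (CommRingCat.ofHom (GLin.orbitHom k A y).toRingHom)) ∧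
      Flat (u ≫ Spec.map (CommRingCat.ofHom (GLin.orbitHom k A y).toRingHom)) ∧
      LocallyOfFinitePresentation (u ≫ Spec.map (CommRingCat.ofHom (GLin.orbitHom k A y).toRingHom)) := by
    intro u hu
    refine ⟨?_, ?_, inferInstance⟩
    · rw [h5]
      infer_instance
    · rw [h5]
      infer_instance
  rw [h1]
  exact key _ h2

end Orbit

end K676.SpAct
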