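import Groth.Agent.ChGrp.K676.StrongPts
import Groth.Agent.ChGrp.K676.SpAct
import Groth.Agent.ChGrp.K676.Induced
import Mathlib.AlgebraicGeometry.Morphisms.Etale
import Mathlib.AlgebraicGeometry.Morphisms.Immersion

/-!
# Cartesian squares of spectra in the slice theorem
-/

set_option autoImplicit false
set_option linter.unusedSectionVars false
set_option linter.style.haveILetI false
universe u
open CategoryTheory MonoidalCategory CartesianMonoidalCategory MonObj AlgebraicGeometry Topology Limits
open scoped TensorProduct
open K951.Pts CoactBr K765.Basic K676.OrbBridge K676.SpAct K676.StrongPts K982.Pts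

namespace K676.SpSquares

attribute [local instance] K951.Pts.algΓ

variable {k : Type u} [Field k]

/-- The extension of a homomorphism to a localization. -/
theorem exists_lift_away {R K : Type u} [CommRing R] [Algebra k R] [CommRing K] [Algebra k K] (F : R) (z : R →ₐ[k] K)
    (h : IsUnit (z F)) : ∃ z' : Localization.Away F →ₐ[k] K, ∀ r, z' (algebraMap R (Localization.Away F) r) = z r := by
  have h1 : ∀ r, IsLocalization.Away.lift (S := Localization.Away F) F (g := z.toRingHom) h
      (algebraMap R (Localization.Away F) r) = z r := fun r => IsLocalization.Away.lift_eq F h r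
  refine ⟨{ IsLocalization.Away.lift (S := Localization.Away F) F (g := z.toRingHom) h with
    commutes' := fun c => ?_ }, h1⟩
  have h2 := h1 (algebraMap k R c)
  rw [← IsScalarTower.algebraMap_apply, AlgHom.commutes] at h2
  exact h2

theorem ext_away {R K : Type u} [CommRing R] [Algebra k R] [CommRing K] [Algebra k K] (F : R)
    {z z' : Localization.Away F →ₐ[k] K}
    (h : ∀ r, z (algebraMap R (Localization.Away F) r) = z' (algebraMap R (Localization.Away F) r)) : z = z' := by
  have h1 : z.toRingHom = z'.toRingHom :=
    IsLocalization.ringHom_ext (Submonoid.powers F) (RingHom.ext h)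
  exact AlgHom.ext fun r => congr($h1 r)

/-- The localization as an algebra map over the base field. -/
noncomputable def loc {R : Type u} [CommRing R] [Algebra k R] (F : R) : R →ₐ[k] Localization.Away F :=
  IsScalarTower.toAlgHom k R (Localization.Away F)

theorem loc_apply {R : Type u} [CommRing R] [Algebra k R] (F : R) (r : R) :
    loc (k := k) F r = algebraMap R (Localization.Away F) r := rfl

theorem isUnit_loc {R : Type u} [CommRing R] [Algebra k R] (F : R) : IsUnit (loc (k := k) F F) :=
  IsLocalization.map_units (Localization.Away F) (⟨F, 1, pow_one _⟩ : Submonoid.powers F)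

theorem isOpenImmersion_loc {R : Type u} [CommRing R] [Algebra k R] (F : R) :
    IsOpenImmersion (pt (loc (k := k) F)).left :=
  inferInstanceAs (IsOpenImmersion (Spec.map (CommRingCat.ofHom (algebraMap R (Localization.Away F)))))

/-- Points factor through the basic open where the function is invertible. -/
theorem exists_pt_loc {R : Type u} [CommRing R] [Algebra k R] (F : R) {T : Over (Spec (CommRingCat.of k))}
    (w : T ⟶ sp k R) (h : IsUnit (fn w F)) : ∃ w' : T ⟶ sp k (Localization.Away F), w' ≫ pt (loc F) = w := by
  obtain ⟨z, hz⟩ := exists_lift_away F (fn w) h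
  refine ⟨ofFn z, fn_injective ?_⟩
  rw [fn_comp_pt, fn_ofFn]
  exact AlgHom.ext hz

section Strong

variable {A : Type u} [CommRing A] [HopfAlgebra k A]
variable {S : Type u} [CommRing S] [Algebra k S] [HopfRep.Comod k A S] [GLin.IsCoactAlg k A S]
variable {R : Type u} [CommRing R] [Algebra k R] [HopfRep.Comod k A R] [GLin.IsCoactAlg k A R]
variable {θ : S →ₐ[k] R} {hθ : IsEquiv A θ} {F : GLin.invariants k A R}

/-- The map from the localized invariants. -/
noncomputable def locInv (F : GLin.invariants k A R) :
    Localization.Away F →ₐ[k] Localization.Away (F : R) :=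
  (exists_lift_away F ((loc (F : R)).comp (GLin.invariants k A R).val) (isUnit_loc (k := k) (F : R))).choose

theorem locInv_loc (F : GLin.invariants k A R) (r : GLin.invariants k A R) :
    locInv F (loc (k := k) F r) = loc (k := k) (F : R) (r : R) :=
  (exists_lift_away F ((loc (F : R)).comp (GLin.invariants k A R).val) (isUnit_loc (k := k) (F : R))).choose_spec r

/-- Points of `Spec R` in the open set where `F` is invertible are determined by their images. -/
theorem ext_pt (h : IsStrong θ hθ F) {T : Over (Spec (CommRingCat.of k))} {w w' : T ⟶ sp k R}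
    (h1 : w ≫ pt θ = w' ≫ pt θ) (h2 : w ≫ pt (GLin.invariants k A R).val = w' ≫ pt (GLin.invariants k A R).val)
    (hu : IsUnit (fn w F)) : w = w' := by
  apply fn_injective
  refine h.unique _ (fn w) (fn w') ?_ (fun r => ?_) hu
  · rw [← fn_comp_pt, ← fn_comp_pt, h1]
  · have h3 := congrArg (fun t => fn t r) h2
    simp only [fn_comp_pt] at h3
    exact h3

/-- The strongly étale square. -/
theorem isPullback_strong (h : IsStrong θ hθ F) :
    IsPullback (pt (loc (F : R)) ≫ pt θ) (pt (locInv F)) (pt (GLin.invariants k A S).val)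
      (pt ((loc F).comp (inv₀ θ hθ))) := by
  have hq : ∀ {T : Over (Spec (CommRingCat.of k))} (w : T ⟶ sp k (Localization.Away (F : R)))
      (r : GLin.invariants k A R), fn (w ≫ pt (locInv F)) (loc (k := k) F r) = fn (w ≫ pt (loc (F : R))) (r : R) := by
    intro T w r
    rw [fn_comp_pt, fn_comp_pt, AlgHom.comp_apply, AlgHom.comp_apply, locInv_loc]
  refine isPullback_of_points ?_ ?_ ?_
  · apply fn_injective
    apply AlgHom.ext
    intro a
    have h1 := hq (𝟙 _) (inv₀ θ hθ a)
    rw [Category.id_comp, Category.id_comp] at h1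
    have e1 := congr($(fn_comp_pt (pt (loc (k := k) (F : R)) ≫ pt θ) (GLin.invariants k A S).val) a)
    have e2 := congr($(fn_comp_pt (pt (loc (k := k) (F : R))) θ) (a : S))
    have e3 := congr($(fn_comp_pt (pt (locInv (k := k) F)) ((loc F).comp (inv₀ θ hθ))) a)
    exact e1.trans (e2.trans (h1.symm.trans e3.symm))
  · intro T x y hxy
    have h1 : ∀ a : GLin.invariants k A S, fn x (a : S) = fn y (loc (k := k) F (inv₀ θ hθ a)) := by
      intro a
      have h2 := congrArg (fun t => fn t a) hxy
      simp only [fn_comp_pt] at h2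
      exact h2
    obtain ⟨z, hz1, hz2⟩ := h.exist _ (fn x) ((fn y).comp (loc F)) h1 ((isUnit_loc (k := k) F).map (fn y))
    obtain ⟨w, hw⟩ := exists_pt_loc (k := k) (F : R) (ofFn z : T ⟶ sp k R) (by
      rw [fn_ofFn]
      have h3 := (isUnit_loc (k := k) F).map (fn y)
      have h4 := hz2 F
      change z (F : R) = fn y (loc (k := k) F F) at h4
      rw [h4]
      exact h3)
    refine ⟨w, ?_, ?_⟩
    · rw [← Category.assoc, hw]
      apply fn_injective
      rw [fn_comp_pt, fn_ofFn, hz1]
    · apply fn_injective
      refine ext_away F fun r => ?_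
      have h3 := hq w r
      rw [hw, fn_ofFn, hz2] at h3
      exact h3
  · intro T w w' h1 h2
    have h3 : w ≫ pt (loc (F : R)) = w' ≫ pt (loc (F : R)) := by
      refine ext_pt h (by rw [Category.assoc, Category.assoc, h1]) ?_ ?_
      · apply fn_injective
        apply AlgHom.ext
        intro r
        have e1 := congr($(fn_comp_pt (w ≫ pt (loc (k := k) (F : R))) (GLin.invariants k A R).val) r)
        have e2 := congr($(fn_comp_pt (w' ≫ pt (loc (k := k) (F : R))) (GLin.invariants k A R).val) r)
        refine e1.trans (Eq.trans ?_ e2.symm)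
        change fn (w ≫ pt (loc (F : R))) (r : R) = fn (w' ≫ pt (loc (F : R))) (r : R)
        rw [← hq w r, ← hq w' r, h2]
      · rw [fn_comp_pt]
        exact (isUnit_loc (k := k) (F : R)).map (fn w)
    apply fn_injective
    refine ext_away (F : R) fun r => ?_
    have h4 := congrArg (fun t => fn t r) h3
    simp only [fn_comp_pt] at h4
    exact h4

theorem etale_loc (h : IsStrong θ hθ F) : Etale (pt ((loc F).comp (inv₀ θ hθ))).left := by
  have h1 : Etale (Spec.map (CommRingCat.ofHom ((algebraMap (GLin.invariants k A R) (Localization.Away F)).comp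
      (inv₀ θ hθ).toRingHom))) := by
    rw [HasRingHomProperty.Spec_iff (P := @Etale)]
    exact h.etale
  exact h1

end Strong

section Fibre

variable {S C R : Type u} [CommRing S] [Algebra k S] [CommRing C] [Algebra k C] [CommRing R] [Algebra k R]
variable (p : C →ₐ[k] R) (y : C →ₐ[k] k)

/-- The fibre over a rational point. -/
theorem isPullback_fibre : IsPullback (pt (Ideal.Quotient.mkₐ k ((RingHom.ker y).map p))) (toUnit _) (pt p) (kpt y) := by
  set I := (RingHom.ker y).map p with hI
  have hp : ∀ c, Ideal.Quotient.mkₐ k I (p c) = algebraMap k _ (y c) := by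
    intro c
    have h2 : c - algebraMap k C (y c) ∈ RingHom.ker y := by
      rw [RingHom.mem_ker, map_sub, AlgHom.commutes]
      simp
    have h3 := Ideal.mem_map_of_mem p h2
    rw [map_sub, AlgHom.commutes] at h3
    have h4 : Ideal.Quotient.mkₐ k I (p c - algebraMap k _ (y c)) = 0 := Ideal.Quotient.eq_zero_iff_mem.2 h3
    rw [map_sub, AlgHom.commutes, sub_eq_zero] at h4
    exact h4
  refine isPullback_of_points ?_ ?_ ?_
  · apply fn_injective
    rw [fn_comp_pt, fn_kpt]
    have h1 : fn (pt (Ideal.Quotient.mkₐ k I)) = (fn (𝟙 (sp k (R ⧸ I)))).comp (Ideal.Quotient.mkₐ k I) := by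
      rw [← fn_comp_pt, Category.id_comp]
    rw [h1]
    apply AlgHom.ext
    intro c
    rw [AlgHom.comp_apply, AlgHom.comp_apply, hp, AlgHom.commutes]
    rfl
  · intro T w u hw
    have hu : u = toUnit T := toUnit_unique _ _
    subst hu
    have h1 : ∀ c, fn w (p c) = algebraMap k _ (y c) := by
      intro c
      have h2 := congrArg (fun t => fn t c) hw
      simp only [fn_comp_pt, fn_kpt] at h2
      exact h2
    have h2 : ∀ r ∈ I, fn w r = 0 := by
      intro r hr
      have h3 : I ≤ RingHom.ker (fn w) := by
        rw [hI, Ideal.map_le_iff_le_comap]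
        intro c hc
        rw [Ideal.mem_comap, RingHom.mem_ker]
        rw [RingHom.mem_ker] at hc
        have h4 := h1 c
        rw [hc, map_zero] at h4
        exact h4
      exact h3 hr
    refine ⟨ofFn (Ideal.Quotient.liftₐ I (fn w) h2), ?_, toUnit_unique _ _⟩
    apply fn_injective
    rw [fn_comp_pt, fn_ofFn]
    apply AlgHom.ext
    intro r
    rfl
  · intro T w w' h1 _
    apply fn_injective
    apply AlgHom.ext
    intro r
    obtain ⟨r, rfl⟩ := Ideal.Quotient.mk_surjective r
    have h2 := congrArg (fun t => fn t r) h1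
    simp only [fn_comp_pt] at h2
    exact h2

theorem isClosedImmersion_pt (f : S →ₐ[k] R) (hf : Function.Surjective f) : IsClosedImmersion (pt f).left :=
  IsClosedImmersion.spec_of_surjective (CommRingCat.ofHom f.toRingHom) hf

theorem isClosedImmersion_fibre (θ : S →ₐ[k] R)
    (h : ∀ z : R, ∃ s : S, z - θ s ∈ (RingHom.ker y).map p) :
    IsClosedImmersion (pt (Ideal.Quotient.mkₐ k ((RingHom.ker y).map p)) ≫ pt θ).left := by
  have h1 : pt (Ideal.Quotient.mkₐ k ((RingHom.ker y).map p)) ≫ pt θ =
      pt ((Ideal.Quotient.mkₐ k ((RingHom.ker y).map p)).comp θ) := by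
    apply fn_injective
    rw [fn_comp_pt]
    have h2 := fn_comp_pt (𝟙 _) (Ideal.Quotient.mkₐ k ((RingHom.ker y).map p))
    have h3 := fn_comp_pt (𝟙 _) ((Ideal.Quotient.mkₐ k ((RingHom.ker y).map p)).comp θ)
    rw [Category.id_comp] at h2 h3
    rw [h2, h3]
    rfl
  rw [h1]
  refine isClosedImmersion_pt _ fun z => ?_
  obtain ⟨z, rfl⟩ := Ideal.Quotient.mk_surjective z
  obtain ⟨s, hs⟩ := h z
  exact ⟨s, (Ideal.Quotient.eq.2 hs).symm⟩

end Fibre

end K676.SpSquares
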