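import Groth.Agent.GLin.K765.Slice4
import Groth.Agent.GIT.K686.CoactOf

/-!
# Strongly étale morphisms on points with values in algebras

`exists_strong`: Luna's fundamental lemma (S19407) read on points: `θ : S → R` an equivariant map étale at `x`, etc.
There is an invariant `F` of `R`, nonvanishing at `x`, with `R₀[1/F]` étale over `S₀`, such that the points `z` of `R`
at which `F` is invertible are the pairs of a point of `S` and a point of `R₀` with the same image in `Spec S₀`.
-/

set_option autoImplicit false
set_option linter.unusedSectionVars false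
set_option linter.style.haveILetI false

universe u v w w' w''

open TensorProduct HopfRep GLin

namespace K676.StrongPts

open Groth.Agent.Books K765.Basic K765.Tr K765.Gens

section Inv

variable {k : Type u} [Field k] {A : Type u} [CommRing A] [HopfAlgebra k A]
variable {S : Type u} [CommRing S] [Algebra k S] [HopfRep.Comod k A S] [GLin.IsCoactAlg k A S]
variable {R : Type u} [CommRing R] [Algebra k R] [HopfRep.Comod k A R] [GLin.IsCoactAlg k A R]

/-- The map on invariants. -/
noncomputable def inv₀ (θ : S →ₐ[k] R) (hθ : IsEquiv A θ) : invariants k A S →ₐ[k] invariants k A R :=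
  (θ.comp (invariants k A S).val).codRestrict (invariants k A R) fun f => hθ.map_mem_invariants f.2

theorem coe_inv₀ (θ : S →ₐ[k] R) (hθ : IsEquiv A θ) (f : invariants k A S) : (inv₀ θ hθ f : R) = θ f := rfl

/-- `R` becomes `S ⊗ R₀` after inverting `F`, on points. -/
structure IsStrong (θ : S →ₐ[k] R) (hθ : IsEquiv A θ) (F : invariants k A R) : Prop where
  etale : ((algebraMap (invariants k A R) (Localization.Away F)).comp (inv₀ θ hθ).toRingHom).Etale
  unique : ∀ (K : Type u) [CommRing K] [Algebra k K] (z z' : R →ₐ[k] K), z.comp θ = z'.comp θ →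
    (∀ r : invariants k A R, z r = z' r) → IsUnit (z F) → z = z'
  exist : ∀ (K : Type u) [CommRing K] [Algebra k K] (s : S →ₐ[k] K) (r : invariants k A R →ₐ[k] K),
    (∀ a : invariants k A S, s a = r (inv₀ θ hθ a)) → IsUnit (r F) →
      ∃ z : R →ₐ[k] K, z.comp θ = s ∧ ∀ a : invariants k A R, z a = r a

end Inv

/-- The invariants are of finite type. -/
theorem finiteType_invariants {k : Type u} [Field k] {A : Type u} [CommRing A] [HopfAlgebra k A]
    [Algebra.FiniteType k A] (hG : HopfRep.IsLinearlyReductive k A)
    (R : Type u) [CommRing R] [Algebra k R] [Algebra.FiniteType k R] [HopfRep.Comod k A R] [GLin.IsCoactAlg k A R] :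
    Algebra.FiniteType k (invariants k A R) := by
  obtain ⟨s, hs, hs'⟩ := K686.CoactOf.exists_generators (A := A) hG R
    (fun f g => GLin.IsCoactAlg.coact_mul f g) GLin.IsCoactAlg.coact_one
  have h2 : invariants k A R = Algebra.adjoin k (s : Set R) := by
    apply le_antisymm
    · intro f hf
      exact hs' f hf
    · exact Algebra.adjoin_le fun f hf => hs f hf
  rw [h2]
  exact (Subalgebra.fg_iff_finiteType _).mp ⟨s, rfl⟩

theorem exists_strong (k : Type u) [Field k] [IsAlgClosed k] [CharZero k]
    (A : Type u) [CommRing A] [IsDomain A] [HopfAlgebra k A] [Algebra.FiniteType k A]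
    (hG : HopfRep.IsLinearlyReductive k A)
    (S : Type u) [CommRing S] [IsReduced S] [Algebra k S] [Algebra.FiniteType k S]
    [HopfRep.Comod k A S] [GLin.IsCoactAlg k A S]
    (R : Type u) [CommRing R] [IsReduced R] [Algebra k R] [Algebra.FiniteType k R]
    [HopfRep.Comod k A R] [GLin.IsCoactAlg k A R]
    (θ : S →ₐ[k] R) (hθ : IsEquiv A θ) (x : R →ₐ[k] k)
    (hdom : ∀ (P : Ideal R) [P.IsPrime], IsDomain (Localization.AtPrime P))
    (hint : ∀ (P : Ideal R) [P.IsPrime], IsIntegrallyClosed (Localization.AtPrime P))
    (het : ∀ (P : Ideal R) [P.IsPrime], RingHom.ker x ≤ P →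
      letI := θ.toRingHom.toAlgebra; Algebra.IsEtaleAt S P)
    (hy : GLin.IsClosedOrbit k A (x.comp θ))
    (hinj : ∀ g : A →ₐ[k] k, GLin.actPt k g (x.comp θ) = x.comp θ → GLin.actPt k g x = x) :
    ∃ F : invariants k A R, x F ≠ 0 ∧ IsStrong θ hθ F := by
  letI iSR : Algebra S R := θ.toRingHom.toAlgebra
  haveI : IsScalarTower k S R := IsScalarTower.of_algebraMap_eq fun a => (θ.commutes a).symm
  have hto : IsScalarTower.toAlgHom k S R = θ := rfl
  letI i0 : Algebra (invariants k A S) (invariants k A R) := (inv₀ θ hθ).toRingHom.toAlgebra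
  haveI : IsScalarTower (invariants k A S) (invariants k A R) R :=
    IsScalarTower.of_algebraMap_eq fun a => rfl
  haveI i1 : IsScalarTower k (invariants k A S) (invariants k A R) :=
    IsScalarTower.of_algebraMap_eq fun a => ((inv₀ θ hθ).commutes a).symm
  have hxs : Function.Surjective x := fun a => ⟨algebraMap k R a, by rw [AlgHom.commutes]; rfl⟩
  haveI hmax : (RingHom.ker x.toRingHom).IsMaximal :=
    RingHom.ker_isMaximal_of_surjective _ hxs
  haveI := hdom (RingHom.ker x.toRingHom)
  haveI := hint (RingHom.ker x.toRingHom)
  obtain ⟨f, g, hfg, -, -, -, h5, h6, h7⟩ := Groth.Agent.S19407.result k A hG S R (fun s => hθ s)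
    (invariants k A S) Subtype.val_injective (by
      ext s
      constructor
      · rintro ⟨t, rfl⟩
        exact t.2
      · intro hs
        exact ⟨⟨s, hs⟩, rfl⟩)
    (invariants k A R) Subtype.val_injective (by
      ext s
      constructor
      · rintro ⟨t, rfl⟩
        exact t.2
      · intro hs
        exact ⟨⟨s, hs⟩, rfl⟩)
    x (RingHom.ker x.toRingHom) rfl (het _ le_rfl) hy hinj
  set F : invariants k A R := f * algebraMap (invariants k A S) (invariants k A R) g with hF
  refine ⟨F, hfg, ?_, ?_, ?_⟩
  · haveI hft1 : Algebra.FiniteType k (invariants k A R) :=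
      finiteType_invariants hG R
    haveI hft0 : Algebra.FiniteType k (invariants k A S) :=
      finiteType_invariants hG S
    haveI : IsNoetherianRing (invariants k A S) := Algebra.FiniteType.isNoetherianRing k _
    haveI : Algebra.FiniteType (invariants k A S) (invariants k A R) :=
      Algebra.FiniteType.of_restrictScalars_finiteType k _ _
    haveI : Algebra.FinitePresentation (invariants k A S) (invariants k A R) :=
      Algebra.FinitePresentation.of_finiteType.1 inferInstance
    have h8 : Algebra.Etale (invariants k A S) (Localization.Away F) :=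
      Algebra.basicOpen_subset_etaleLocus_iff_etale.1 fun q hq => h5 q.asIdeal hq
    have h9 := RingHom.etale_algebraMap.2 h8
    exact h9
  · intro K _ _ z z' h1 h2 hu
    refine AlgHom.ext fun r => ?_
    obtain ⟨n, w, hw⟩ := h7 r
    have e4 : ∀ w : S ⊗[invariants k A S] (invariants k A R),
        z (Algebra.TensorProduct.productMap (IsScalarTower.toAlgHom (invariants k A S) S R)
          (IsScalarTower.toAlgHom (invariants k A S) (invariants k A R) R) w) =
        z' (Algebra.TensorProduct.productMap (IsScalarTower.toAlgHom (invariants k A S) S R)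
          (IsScalarTower.toAlgHom (invariants k A S) (invariants k A R) R) w) := by
      intro w
      induction w with
      | zero => simp
      | add a b ha hb => simp only [map_add, ha, hb]
      | tmul a b =>
        rw [Algebra.TensorProduct.productMap_apply_tmul, map_mul, map_mul]
        congr 1
        · exact DFunLike.congr_fun h1 a
        · exact h2 b
    have e5 := e4 w
    have e6 : z' (algebraMap (invariants k A R) R F) = z (algebraMap (invariants k A R) R F) := (h2 F).symm
    have e7 : ∀ y : R →ₐ[k] K, y (algebraMap (invariants k A R) R F ^ n * r) =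
        y (algebraMap (invariants k A R) R F) ^ n * y r := fun y => by rw [map_mul, map_pow]
    rw [hw] at e5
    have e8 := (e7 z).symm.trans (e5.trans (e7 z'))
    rw [e6] at e8
    exact (hu.pow n).mul_left_cancel e8
  · intro K _ _ s r hsr hu
    let φ := Algebra.TensorProduct.productMap (IsScalarTower.toAlgHom (invariants k A S) S R)
          (IsScalarTower.toAlgHom (invariants k A S) (invariants k A R) R)
    letI aK : Algebra (invariants k A S) K := (r.toRingHom.comp (inv₀ θ hθ).toRingHom).toAlgebra
    let s' : S →ₐ[invariants k A S] K := { s.toRingHom with commutes' := fun a => hsr a }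
    let r' : invariants k A R →ₐ[invariants k A S] K := { r.toRingHom with commutes' := fun a => rfl }
    let ζ : S ⊗[invariants k A S] (invariants k A R) →ₐ[invariants k A S] K :=
      Algebra.TensorProduct.lift s' r' fun _ _ => .all _ _
    have hζ : ∀ a b, ζ (a ⊗ₜ b) = s a * r b := fun a b => Algebra.TensorProduct.lift_tmul _ _ _ _ _
    have hφF : φ ((1 : S) ⊗ₜ[invariants k A S] F) = algebraMap (invariants k A R) R F := by
      rw [Algebra.TensorProduct.productMap_apply_tmul, map_one, one_mul]
      rfl
    have hb := K798.AwayIso.bijective_awayMap φ.toRingHom ((1 : S) ⊗ₜ[invariants k A S] F)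
      (fun c hc => h6 c hc) (fun y => by
        obtain ⟨n, c, hc⟩ := h7 y
        refine ⟨n, c, ?_⟩
        change φ c = φ _ ^ n * y
        rw [hφF]
        exact hc)
    obtain ⟨z, hz⟩ := K798.AwayIso.exists_extension φ.toRingHom ((1 : S) ⊗ₜ[invariants k A S] F) hb
      ζ.toRingHom (by
        change IsUnit (ζ (1 ⊗ₜ F))
        rw [hζ, map_one, one_mul]
        exact hu)
    have hz1 : ∀ a : S, z (θ a) = s a := by
      intro a
      have h1 := hz (a ⊗ₜ 1)
      have h2 : φ (a ⊗ₜ 1) = θ a := by
        rw [Algebra.TensorProduct.productMap_apply_tmul, map_one, mul_one]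
        rfl
      have h3 : ζ (a ⊗ₜ 1) = s a := by
        rw [hζ, map_one, mul_one]
      exact (congrArg z h2.symm).trans (h1.trans h3)
    have hz2 : ∀ a : invariants k A R, z a = r a := by
      intro a
      have h1 := hz (1 ⊗ₜ a)
      have h2 : φ (1 ⊗ₜ a) = a := by
        rw [Algebra.TensorProduct.productMap_apply_tmul, map_one, one_mul]
        rfl
      have h3 : ζ (1 ⊗ₜ a) = r a := by
        rw [hζ, map_one, one_mul]
      exact (congrArg z h2.symm).trans (h1.trans h3)
    refine ⟨{ z with commutes' := fun c => ?_ }, AlgHom.ext hz1, hz2⟩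
    have h1 := hz1 (algebraMap k S c)
    rw [AlgHom.commutes, AlgHom.commutes] at h1
    exact h1

end K676.StrongPts
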